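import Cfsg.Agent.H40.PV.Ell
import Cfsg.Agent.H116.RatB0.TabF4
import Cfsg.Agent.H116.RatB0.StAut
import Cfsg.Agent.H116.RatB0.StExc

/-!
# `F4(q)`, `q` of order `3` or `6` modulo `7` : type preserving automorphisms do not fuse (helper408, S4879 row F4)

`f4_typ` : a subgroup `H` of index `1` or `2` of `Aut F4(q)` containing the inner automorphisms and elements `x ∈ P_012`,
`y ∈ P_123` of order `7` which are not conjugate under `H`.
-/

set_option autoImplicit false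
set_option linter.unusedSectionVars false
set_option maxRecDepth 100000

namespace Cfsg.Agent.H408.LB

open CoxeterSystem Cfsg.Agent.ChevalleyStructure.CoxeterGeom Cfsg.Agent.Tits.Roots Cfsg.Agent.Tits.Core
  Cfsg.Agent.Nodes.Reps Cfsg.Agent.Nodes.BNOf Cfsg.Agent.Nodes.Bruhat Cfsg.Agent.Nodes.LeviDec
  Cfsg.Agent.H40.PV Cfsg.Agent.H116.RatB0 Cfsg.Agent.H116.StAut Cfsg.Agent.KFacts.RgdDiag
  Cfsg.Agent.H35.Poin Cfsg.Agent.H35.PoinNum Cfsg.Agent.H35.ExcIdx
  Cfsg.Agent.ChevalleyStructure.CoxeterGeomTypes Cfsg.Lie Cfsg.Agent.Nodes.RGDChev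
  Cfsg.Agent.ChevalleyStructure.NPerm Cfsg.Agent.H554.RG

universe u

/-! ### elliptic elements -/

section ell

variable {I W Y : Type*} [Fintype I] [DecidableEq I] [Group W] [Group Y] {M : CoxeterMatrix I}
  {cs : CoxeterSystem M W} {A : I → I → ℤ} {h : IsCartan M A} {p : ℕ} {T : Subgroup Y} {n : I → Y}
  {X : (I → ℤ) → Subgroup Y}

/-- every element of `P_J` is conjugate to an elliptic element of some `P_K`, `K ⊆ J` -/
theorem exists_ell {J : Set I} {x : Y} (hx : x ∈ PJ cs h T X J) :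
    ∃ K ⊆ J, ∃ u : Y, Ell cs h T X K (u⁻¹ * x * u) := by
  classical
  have hne : {m : ℕ | ∃ K ⊆ J, K.ncard = m ∧ ∃ u : Y, u⁻¹ * x * u ∈ PJ cs h T X K}.Nonempty :=
    ⟨J.ncard, J, subset_rfl, rfl, 1, by simpa using hx⟩
  obtain ⟨K, hKJ, hK, u, hu⟩ := Nat.sInf_mem hne
  refine ⟨K, hKJ, u, hu, fun g _ K' hK' hg => ?_⟩
  have h1 : K.ncard ≤ K'.ncard := by
    rw [hK]
    refine Nat.sInf_le ⟨K', hK'.trans hKJ, rfl, u * g, ?_⟩
    have e : (u * g)⁻¹ * x * (u * g) = g⁻¹ * (u⁻¹ * x * u) * g := by group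
    rwa [e]
  exact Set.eq_of_subset_of_ncard_le hK' h1 (Set.toFinite K)

/-- a type preserving automorphism maps elliptic elements to conjugates of elliptic elements of the same type -/
theorem ell_gel {K : Set I} {x : Y} (hx : Ell cs h T X K x) {a : MulAut Y} {g : Y} (hg : Gel cs h T X a g 1) :
    Ell cs h T X K (g⁻¹ * a x * g) := by
  have hP : ∀ (J : Set I) (z : Y), g⁻¹ * a z * g ∈ PJ cs h T X J ↔ z ∈ PJ cs h T X J := by
    intro J z
    have h1 := hg J z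
    rwa [Equiv.Perm.coe_one, Set.image_id] at h1
  refine ⟨(hP K x).2 hx.1, fun b hb K' hK' hb' => ?_⟩
  obtain ⟨c, hc⟩ := a.surjective (g * b * g⁻¹)
  have hb1 : b = g⁻¹ * a c * g := by rw [hc]; group
  have hcK : c ∈ PJ cs h T X K := (hP K c).1 (by rw [← hb1]; exact hb)
  refine hx.2 c hcK K' hK' ((hP K' _).1 ?_)
  have e : g⁻¹ * a (c⁻¹ * x * c) * g = b⁻¹ * (g⁻¹ * a x * g) * b := by
    rw [hb1, map_mul, map_mul, map_inv]
    group
  rw [e]
  exact hb'

variable (R : RGD cs h p T n X)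

/-- the type of an automorphism is a symmetry of the diagram -/
theorem typ_matrix [Finite W] [Finite Y] [Fact p.Prime] (hG : GG cs h T X = ⊤) (a : MulAut Y) (i j : I) :
    M (typHom R hG a i) (typHom R hG a j) = M i j := by
  obtain ⟨s, σ, hσ⟩ := Cfsg.Agent.H554.RG.exists_std_conj R hG a
  have h1 : Gel cs h T X a s⁻¹ σ := by
    intro J x
    have h1 := map_PJ R hG hσ J
    rw [← h1, inv_inv]
    constructor
    · rintro ⟨y, hy, e⟩
      have h2 : y = x := (MulAut.conj s * a).injective (e.trans rfl)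
      rwa [← h2]
    · intro hx
      exact ⟨x, hx, rfl⟩
  have h2 : typHom R hG a = σ := (Gel.unique R hG (gel_spec R hG a) h1).2
  rw [h2]
  exact Diag.matrix (R := R) hσ.diag i j

/-- the type preserving automorphisms -/
theorem gel_one_of_mem_ker [Finite W] [Finite Y] [Fact p.Prime] (hG : GG cs h T X = ⊤) {a : MulAut Y}
    (ha : a ∈ (typHom R hG).ker) : ∃ g : Y, Gel cs h T X a g 1 := by
  have h1 := gel_spec R hG a
  have h2 : typ R hG a = 1 := MonoidHom.mem_ker.1 ha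
  rw [h2] at h1
  exact ⟨_, h1⟩

end ell

/-! ### the diagram of type `F4` -/

/-- the roots conjugate to the simple roots of the nodes `2`, `3` have even coefficients at the nodes `0`, `1` -/
theorem even_rep {W : Type*} [Group W] (cs : CoxeterSystem CoxeterMatrix.F₄ W) (w : W) (x : Fin 4 → ℤ)
    (hx : 2 ∣ x 0 ∧ 2 ∣ x 1) : 2 ∣ rep cs hpF4.isCartan w x 0 ∧ 2 ∣ rep cs hpF4.isCartan w x 1 := by
  obtain ⟨ω, rfl⟩ := cs.wordProd_surjective w
  induction ω with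
  | nil => rw [wordProd_nil, map_one, Module.End.one_apply]; exact hx
  | cons i ω ih =>
    rw [wordProd_cons, rep_mul_apply, rep_simple_eq]
    set z := rep cs hpF4.isCartan (cs.wordProd ω) x with hz
    have hp : pairing (cartanOf chevF4 4) i z = ∑ k, cartanOf chevF4 4 i k * z k := rfl
    obtain ⟨⟨a, ha⟩, b, hb⟩ := ih
    rw [Fin.sum_univ_four] at hp
    simp only [Pi.sub_apply, Pi.smul_apply, smul_eq_mul]
    fin_cases i
    · have e1 : (sr 0 : Fin 4 → ℤ) 0 = 1 := sr_self _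
      have e2 : (sr 0 : Fin 4 → ℤ) 1 = 0 := sr_ne (by decide)
      show 2 ∣ z 0 - pairing (cartanOf chevF4 4) 0 z * (sr 0 : Fin 4 → ℤ) 0 ∧ 2 ∣ z 1 - _ * (sr 0 : Fin 4 → ℤ) 1
      have c0 : cartanOf chevF4 4 0 0 = 2 := by decide +kernel
      have c1 : cartanOf chevF4 4 0 1 = -1 := by decide +kernel
      have c2 : cartanOf chevF4 4 0 2 = 0 := by decide +kernel
      have c3 : cartanOf chevF4 4 0 3 = 0 := by decide +kernel
      have hp' : pairing (cartanOf chevF4 4) 0 z = cartanOf chevF4 4 0 0 * z 0 + cartanOf chevF4 4 0 1 * z 1 +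
        cartanOf chevF4 4 0 2 * z 2 + cartanOf chevF4 4 0 3 * z 3 := hp
      rw [hp', c0, c1, c2, c3, e1, e2, mul_zero, sub_zero]
      refine ⟨?_, b, hb⟩
      omega
    · have e1 : (sr 1 : Fin 4 → ℤ) 0 = 0 := sr_ne (by decide)
      have e2 : (sr 1 : Fin 4 → ℤ) 1 = 1 := sr_self _
      show 2 ∣ z 0 - _ * (sr 1 : Fin 4 → ℤ) 0 ∧ 2 ∣ z 1 - pairing (cartanOf chevF4 4) 1 z * (sr 1 : Fin 4 → ℤ) 1
      have c0 : cartanOf chevF4 4 1 0 = -1 := by decide +kernel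
      have c1 : cartanOf chevF4 4 1 1 = 2 := by decide +kernel
      have c2 : cartanOf chevF4 4 1 2 = -2 := by decide +kernel
      have c3 : cartanOf chevF4 4 1 3 = 0 := by decide +kernel
      have hp' : pairing (cartanOf chevF4 4) 1 z = cartanOf chevF4 4 1 0 * z 0 + cartanOf chevF4 4 1 1 * z 1 +
        cartanOf chevF4 4 1 2 * z 2 + cartanOf chevF4 4 1 3 * z 3 := hp
      rw [hp', c0, c1, c2, c3, e1, e2, mul_zero, sub_zero]
      refine ⟨⟨a, ha⟩, ?_⟩
      omega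
    · have e1 : (sr 2 : Fin 4 → ℤ) 0 = 0 := sr_ne (by decide)
      have e2 : (sr 2 : Fin 4 → ℤ) 1 = 0 := sr_ne (by decide)
      show 2 ∣ z 0 - _ * (sr 2 : Fin 4 → ℤ) 0 ∧ 2 ∣ z 1 - _ * (sr 2 : Fin 4 → ℤ) 1
      rw [e1, e2, mul_zero, sub_zero, sub_zero]
      exact ⟨⟨a, ha⟩, b, hb⟩
    · have e1 : (sr 3 : Fin 4 → ℤ) 0 = 0 := sr_ne (by decide)
      have e2 : (sr 3 : Fin 4 → ℤ) 1 = 0 := sr_ne (by decide)
      show 2 ∣ z 0 - _ * (sr 3 : Fin 4 → ℤ) 0 ∧ 2 ∣ z 1 - _ * (sr 3 : Fin 4 → ℤ) 1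
      rw [e1, e2, mul_zero, sub_zero, sub_zero]
      exact ⟨⟨a, ha⟩, b, hb⟩

/-- the lengths of the simple roots are preserved -/
theorem long_iff {W : Type*} [Group W] (cs : CoxeterSystem CoxeterMatrix.F₄ W) {w : W} {j k : Fin 4}
    (h : rep cs hpF4.isCartan w (sr k) = sr j) : (k = 2 ∨ k = 3) ↔ (j = 2 ∨ j = 3) := by
  have key : ∀ i : Fin 4, (i = 2 ∨ i = 3) ↔ (2 ∣ (sr i : Fin 4 → ℤ) 0 ∧ 2 ∣ (sr i : Fin 4 → ℤ) 1) := by
    intro i
    fin_cases i
    · refine ⟨fun h => absurd h (by decide), fun h => ?_⟩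
      have e1 : (sr 0 : Fin 4 → ℤ) 0 = 1 := sr_self _
      have h2 : 2 ∣ (sr 0 : Fin 4 → ℤ) 0 := h.1
      rw [e1] at h2
      exact absurd h2 (by norm_num)
    · refine ⟨fun h => absurd h (by decide), fun h => ?_⟩
      have e1 : (sr 1 : Fin 4 → ℤ) 1 = 1 := sr_self _
      have h2 : 2 ∣ (sr 1 : Fin 4 → ℤ) 1 := h.2
      rw [e1] at h2
      exact absurd h2 (by norm_num)
    · have e1 : (sr 2 : Fin 4 → ℤ) 0 = 0 := sr_ne (by decide)
      have e2 : (sr 2 : Fin 4 → ℤ) 1 = 0 := sr_ne (by decide)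
      exact ⟨fun _ => ⟨⟨0, e1⟩, ⟨0, e2⟩⟩, fun _ => Or.inl rfl⟩
    · have e1 : (sr 3 : Fin 4 → ℤ) 0 = 0 := sr_ne (by decide)
      have e2 : (sr 3 : Fin 4 → ℤ) 1 = 0 := sr_ne (by decide)
      exact ⟨fun _ => ⟨⟨0, e1⟩, ⟨0, e2⟩⟩, fun _ => Or.inr rfl⟩
  rw [key, key]
  constructor
  · intro h1
    rw [← h]
    exact even_rep cs w _ h1
  · intro h1
    have h2 : rep cs hpF4.isCartan w⁻¹ (sr j) = sr k := by rw [← h, rep_inv_apply]
    rw [← h2]
    exact even_rep cs w⁻¹ _ h1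

/-- no element of the Weyl group maps a subset of `{0, 1, 2}` containing `0`, `1` into `{1, 2, 3}` -/
theorem not_both {W : Type*} [Group W] (cs : CoxeterSystem CoxeterMatrix.F₄ W) {w : W} {K K₁ : Set (Fin 4)}
    (h : ∀ k ∈ K, ∃ j ∈ K₁, rep cs hpF4.isCartan w (sr k) = sr j) (hK₁ : K₁ ⊆ {1, 2, 3}) :
    ¬ ((0 : Fin 4) ∈ K ∧ (1 : Fin 4) ∈ K) := by
  rintro ⟨h0, h1⟩
  have key : ∀ k ∈ K, (k = 0 ∨ k = 1) → rep cs hpF4.isCartan w (sr k) = sr 1 := by
    intro k hk hk'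
    obtain ⟨j, hj, e⟩ := h k hk
    have h2 := long_iff cs e
    have h3 := hK₁ hj
    simp only [Set.mem_insert_iff, Set.mem_singleton_iff] at h3
    have h4 : ¬ (j = 2 ∨ j = 3) := by
      rw [← h2]
      rcases hk' with rfl | rfl <;> decide
    have h5 : j = 1 := by
      rcases h3 with h3 | h3 | h3
      · exact h3
      · exact absurd (Or.inl h3) h4
      · exact absurd (Or.inr h3) h4
    rw [e, h5]
  have h2 := (key 0 h0 (Or.inl rfl)).trans (key 1 h1 (Or.inr rfl)).symm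
  have h3 : (sr 0 : Fin 4 → ℤ) = sr 1 := by
    have h4 := congrArg (rep cs hpF4.isCartan w⁻¹) h2
    rwa [rep_inv_apply, rep_inv_apply] at h4
  have h4 := congrFun h3 0
  have e1 : (sr 0 : Fin 4 → ℤ) 0 = 1 := sr_self _
  have e2 : (sr 1 : Fin 4 → ℤ) 0 = 0 := sr_ne (by decide)
  rw [e1, e2] at h4
  exact one_ne_zero h4

/-- the Coxeter matrix of type `F4` -/
def m4 (i j : Fin 4) : ℕ := (![![1, 3, 2, 2], ![3, 1, 4, 2], ![2, 4, 1, 3], ![2, 2, 3, 1]] : Fin 4 → Fin 4 → ℕ) i j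

theorem m4_eq (i j : Fin 4) : CoxeterMatrix.F₄ i j = m4 i j := by rfl

/-- the symmetries of the diagram are the identity and the reversal -/
theorem f4_sym {σ : Equiv.Perm (Fin 4)} (hσ : ∀ i j, CoxeterMatrix.F₄ (σ i) (σ j) = CoxeterMatrix.F₄ i j) :
    σ = 1 ∨ σ = Fin.revPerm := by
  simp only [m4_eq] at hσ
  have key : ∀ a b c d : Fin 4, m4 b c = m4 1 2 → m4 a b = m4 0 1 → m4 c d = m4 2 3 →
      (a = 0 ∧ b = 1 ∧ c = 2 ∧ d = 3) ∨ (a = 3 ∧ b = 2 ∧ c = 1 ∧ d = 0) := by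
    decide +kernel
  rcases key (σ 0) (σ 1) (σ 2) (σ 3) (hσ 1 2) (hσ 0 1) (hσ 2 3) with ⟨h0, h1, h2, h3⟩ | ⟨h0, h1, h2, h3⟩
  · left
    ext i
    fin_cases i
    · exact congrArg Fin.val h0
    · exact congrArg Fin.val h1
    · exact congrArg Fin.val h2
    · exact congrArg Fin.val h3
  · right
    ext i
    fin_cases i
    · exact congrArg Fin.val h0
    · exact congrArg Fin.val h1
    · exact congrArg Fin.val h2
    · exact congrArg Fin.val h3

/-! ### the group `F4(q)` -/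

section inst

variable (K : Type u) [Field K] [Fintype K]

/-- **(a), (b)** the type preserving automorphisms of `F4(q)` -/
theorem exists_typ : ∃ H : Subgroup (MulAut ↥(chevF4.group K)), (∀ s, MulAut.conj s ∈ H) ∧
    (H.index = 1 ∨ H.index = 2) ∧ ∀ φ ∈ H, ∃ g : ↥(chevF4.group K),
      Gel CoxeterMatrix.F₄.toCoxeterSystem hpF4.isCartan (TT chevF4 K) (XX chevF4 4 K) φ g 1 := by
  obtain ⟨r, f, _, hr, hf, hK⟩ := exists_pow K
  have : Fact r.Prime := ⟨hr⟩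
  set cs := CoxeterMatrix.F₄.toCoxeterSystem
  have hfin := finite_W hpF4 cs
  have hR := rgd (K := K) hpF4 cs r
  have hG := GG_eq_top hpF4 K cs
  refine ⟨(typHom hR hG).ker, fun s => MonoidHom.mem_ker.2 (typHom_conj s), ?_, fun φ hφ =>
    gel_one_of_mem_ker hR hG hφ⟩
  rw [Subgroup.index_ker]
  have h1 : ((typHom hR hG).range : Set (Equiv.Perm (Fin 4))) ⊆ {1, Fin.revPerm} := by
    rintro _ ⟨a, rfl⟩
    rcases f4_sym (typ_matrix hR hG a) with h2 | h2
    · exact Or.inl h2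
    · exact Or.inr h2
  have h2 : Nat.card (typHom hR hG).range ≤ 2 := by
    have h3 := Set.ncard_le_ncard h1 (Set.toFinite _)
    have h4 : ({1, Fin.revPerm} : Set (Equiv.Perm (Fin 4))).ncard ≤ 2 :=
      (Set.ncard_insert_le _ _).trans (by rw [Set.ncard_singleton])
    exact h3.trans h4
  have h3 : 0 < Nat.card (typHom hR hG).range := Nat.card_pos
  omega

variable {K}

/-- orders modulo `7` -/
theorem num7 {q : ℕ} (hq : 1 ≤ q) (hd : orderOf (q : ZMod 7) = 3 ∨ orderOf (q : ZMod 7) = 6) :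
    (∀ d, ¬ 3 ∣ d → ¬ 7 ∣ q ^ d - 1) ∧ 7 ∣ q ^ 6 - 1 := by
  have h1 : ∀ d, ((q ^ d - 1 : ℕ) : ZMod 7) = (q : ZMod 7) ^ d - 1 := by
    intro d
    rw [Nat.cast_sub (Nat.one_le_pow _ _ hq)]
    push_cast
    rfl
  have h3 : 3 ∣ orderOf (q : ZMod 7) := by
    rcases hd with h | h <;> rw [h]
    norm_num
  have h6 : orderOf (q : ZMod 7) ∣ 6 := by
    rcases hd with h | h <;> rw [h]
    norm_num
  constructor
  · intro d hd' h
    rw [← ZMod.natCast_eq_zero_iff, h1, sub_eq_zero] at h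
    exact hd' (h3.trans (orderOf_dvd_of_pow_eq_one h))
  · rw [← ZMod.natCast_eq_zero_iff, h1, sub_eq_zero]
    exact orderOf_dvd_iff_pow_eq_one.1 h6

/-- **[F4]** type preserving automorphisms of `F4(q)` do not fuse the elements of order `7` of `P_012` and `P_123` -/
theorem f4_typ (hd : orderOf ((Fintype.card K : ℕ) : ZMod 7) = 3 ∨ orderOf ((Fintype.card K : ℕ) : ZMod 7) = 6) :
    ∃ H : Subgroup (MulAut ↥(chevF4.group K)), (∀ s, MulAut.conj s ∈ H) ∧ (H.index = 1 ∨ H.index = 2) ∧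
      ∃ x y : ↥(chevF4.group K), orderOf x = 7 ∧ orderOf y = 7 ∧ ∀ φ ∈ H, φ x ≠ y := by
  have hp7 : Fact (Nat.Prime 7) := ⟨by norm_num⟩
  obtain ⟨H, hH1, hH2, hH3⟩ := exists_typ K
  obtain ⟨r, f, _, hr, hf, hK⟩ := exists_pow K
  have : Fact r.Prime := ⟨hr⟩
  set cs := CoxeterMatrix.F₄.toCoxeterSystem
  have hfin := finite_W hpF4 cs
  have hR := rgd (K := K) hpF4 cs r
  have hG := GG_eq_top hpF4 K cs
  rw [hK] at hd
  set q := r ^ f with hqdef
  have hq2 : 2 ≤ q := two_le hr hf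
  have hq : 1 ≤ q := by omega
  obtain ⟨nd, hd6⟩ := num7 hq hd
  have hc : ∀ i, Nat.card (XX chevF4 4 K (sr i)) = q := fun i => by
    rw [card_XX hpF4 K cs (isRoot_sr _ _ i), Nat.card_eq_fintype_card, hK]
  have hpr : (7 : ℕ) ≠ r := by
    rintro rfl
    have h3 : ((q : ℕ) : ZMod 7) = 0 := by
      rw [ZMod.natCast_eq_zero_iff]
      exact dvd_pow_self 7 hf
    rw [h3] at hd
    rcases hd with hd | hd
    · have h4 : (0 : ZMod 7) ^ 3 = 1 := by rw [← hd, pow_orderOf_eq_one]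
      rw [zero_pow (by norm_num)] at h4
      exact zero_ne_one h4
    · have h4 : (0 : ZMod 7) ^ 6 = 1 := by rw [← hd, pow_orderOf_eq_one]
      rw [zero_pow (by norm_num)] at h4
      exact zero_ne_one h4
  have hnd1 : ¬ 7 ∣ (q - 1) ^ 4 := by
    intro h3
    have h4 := nd 1 (by norm_num)
    rw [pow_one] at h4
    exact h4 (hp7.out.dvd_of_dvd_pow h3)
  -- the torus
  have hTc : 1 * Nat.card (chevF4.diagonalSubgroup K) = (q - 1) ^ 4 := by
    rw [← hK]
    exact Cfsg.Agent.S1035.result rfl (chevF4, 1) (by simp)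
  rw [one_mul] at hTc
  have hT1 : Nat.card (TT chevF4 K) = Nat.card (chevF4.diagonalSubgroup K) :=
    Nat.card_congr (Subgroup.subgroupOfEquivOfLe
      (Cfsg.Agent.ChevalleyStructure.Elts.diagonal_le_group hpF4.inList K)).toEquiv
  have hpB : ¬ 7 ∣ Nat.card ↥(RGD.B cs hpF4.isCartan (TT chevF4 K) (XX chevF4 4 K)) := by
    rw [card_B' hR, hp7.out.dvd_mul, not_or]
    refine ⟨fun h3 => ?_, ?_⟩
    · obtain ⟨m, hm⟩ := IsPGroup.iff_card.1 hR.isPGroup_Upos
      rw [hm] at h3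
      exact hpr ((Nat.prime_dvd_prime_iff_eq hp7.out hr).1 (hp7.out.dvd_of_dvd_pow h3))
    · rw [hT1, hTc]
      exact hnd1
  -- the parabolic subgroups without `7`
  have small : ∀ (J : List (Fin 4)) (D : List ℕ),
      ParOrd cs hpF4.isCartan (TT chevF4 K) (XX chevF4 4 K) q 4 J D → (∀ d ∈ D, ¬ 3 ∣ d) →
      ¬ 7 ∣ Nat.card (PJ cs hpF4.isCartan (TT chevF4 K) (XX chevF4 4 K) {j | j ∈ J}) := by
    rintro J D ⟨N, h3, h4⟩ hD
    rw [h3, hp7.out.dvd_mul, not_or]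
    refine ⟨fun h5 => ?_, hpB⟩
    have h6 : 7 ∣ pr q D := by
      rw [← h4]
      exact h5.mul_right _
    clear h3 h4
    induction D with
    | nil => rw [pr_nil] at h6; exact absurd h6 (by norm_num)
    | cons d D ih =>
      rw [pr_cons, hp7.out.dvd_mul] at h6
      rcases h6 with h6 | h6
      · exact nd d (hD d List.mem_cons_self) h6
      · exact ih (fun e he => hD e (List.mem_cons_of_mem _ he)) h6
  have big : ∀ (J : List (Fin 4)),
      ParOrd cs hpF4.isCartan (TT chevF4 K) (XX chevF4 4 K) q 4 J [1, 2, 4, 6] →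
      7 ∣ Nat.card (PJ cs hpF4.isCartan (TT chevF4 K) (XX chevF4 4 K) {j | j ∈ J}) := by
    rintro J ⟨N, h3, h4⟩
    rw [h3]
    refine Dvd.dvd.mul_right ?_ _
    have h5 : 7 ∣ N * (q - 1) ^ 4 := by
      rw [h4]
      simp only [pr_cons]
      exact (((hd6.mul_right _).mul_left _).mul_left _).mul_left _
    exact (hp7.out.dvd_mul.1 h5).resolve_right hnd1
  have o02 : ParOrd cs hpF4.isCartan (TT chevF4 K) (XX chevF4 4 K) q 4 [0, 2] [1, 1, 2, 2] :=
    ParOrd.path (oF4_2 hR hq2 hc) hR hq2 hc (C := [0]) (i0 := 0) (by constructor <;> decide +kernel) (by decide)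
  have s02 := small _ _ o02 (by decide)
  have s12 := small _ _ (oF4_12 hR hq2 hc) (by decide)
  -- elements of order `7`
  obtain ⟨x, hx⟩ := exists_prime_orderOf_dvd_card' 7 (big _ (oF4_012 hR hq2 hc))
  obtain ⟨y, hy⟩ := exists_prime_orderOf_dvd_card' 7 (big _ (oF4_123 hR hq2 hc))
  refine ⟨H, hH1, hH2, x, y, by rw [Subgroup.orderOf_coe]; exact hx, by rw [Subgroup.orderOf_coe]; exact hy,
    fun φ hφ e => ?_⟩
  obtain ⟨K0, hK0, u, hu⟩ := exists_ell (cs := cs) (h := hpF4.isCartan) (T := TT chevF4 K) (X := XX chevF4 4 K) x.2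
  obtain ⟨g, hg⟩ := hH3 φ hφ
  have hz := ell_gel hu hg
  set z := g⁻¹ * φ (u⁻¹ * (x : ↥(chevF4.group K)) * u) * g with hzdef
  have hzy : ((φ u * g)⁻¹)⁻¹ * z * (φ u * g)⁻¹ = y := by
    rw [hzdef, map_mul, map_mul, map_inv, e]
    group
  obtain ⟨K₁, hK₁, w, -, hw, -⟩ := hz.exists_conj hR hG (J := {j | j ∈ ([1, 2, 3] : List (Fin 4))})
    (g := (φ u * g)⁻¹) (by rw [hzy]; exact y.2)
  have hnb := not_both cs hw (by
    intro j hj
    have := hK₁ hj
    simpa using this)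
  have hzo : orderOf z = 7 := by
    have h1 : y = ((φ u * g)⁻¹)⁻¹ * z * (φ u * g)⁻¹ := hzy.symm
    have h2 : (z : ↥(chevF4.group K)) = MulAut.conj (φ u * g)⁻¹ (y : ↥(chevF4.group K)) := by
      rw [MulAut.conj_apply, h1]
      group
    rw [h2, MulEquiv.orderOf_eq, Subgroup.orderOf_coe]
    exact hy
  have hzK : 7 ∣ Nat.card (PJ cs hpF4.isCartan (TT chevF4 K) (XX chevF4 4 K) K0) := by
    rw [← hzo]
    exact Subgroup.orderOf_dvd_natCard _ hz.1
  have key : ∀ J : List (Fin 4), K0 ⊆ {j | j ∈ J} →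
      7 ∣ Nat.card (PJ cs hpF4.isCartan (TT chevF4 K) (XX chevF4 4 K) {j | j ∈ J}) := by
    intro J h5
    exact hzK.trans (Subgroup.card_dvd_of_le (sup_le ((LJ_mono h5).trans LJ_le_PJ) ((VJ_le_B K0).trans B_le_PJ)))
  by_cases h0 : (0 : Fin 4) ∈ K0
  · refine s02 (key [0, 2] fun j hj => ?_)
    have h1 := hK0 hj
    have h2 : j ≠ 1 := fun e => hnb ⟨h0, e ▸ hj⟩
    simp only [List.mem_cons, List.not_mem_nil, or_false, Set.mem_ofPred_eq] at h1 ⊢
    tauto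
  · refine s12 (key [1, 2] fun j hj => ?_)
    have h1 := hK0 hj
    have h2 : j ≠ 0 := fun e => h0 (e ▸ hj)
    simp only [List.mem_cons, List.not_mem_nil, or_false, Set.mem_ofPred_eq] at h1 ⊢
    tauto

end inst

end Cfsg.Agent.H408.LB
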